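import Groth.Agent.CurveTrace.Field
import Groth.Agent.CurveCohLib.Polar
import Groth.Agent.Lib.NormalPush
import Groth.Prelude.Def_Pi1

/-!
The trace of functions along a finite morphism onto a normal integral scheme.
-/

set_option autoImplicit false
set_option linter.style.haveILetI false
set_option linter.unusedSectionVars false
set_option backward.isDefEq.respectTransparency false
set_option backward.isDefEq.respectTransparency.types false
set_option maxHeartbeats 1000000

universe u

open CategoryTheory CategoryTheory.Limits AlgebraicGeometry TopologicalSpace Opposite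
open Groth.Agent.CurveCohLib Groth.Agent.CurveCohLib.Polar Groth.Agent.AModX Groth.Agent.InvX

noncomputable section

namespace Groth.Agent.CurveTrace

variable {X Y : Scheme.{u}} [IsIntegral X] [IsIntegral Y] {f : X ⟶ Y}
  (e : f (genericPoint X) = genericPoint Y)

/-- The map of function fields. -/
abbrev ff : Y.functionField →+* X.functionField :=
  ((Y.presheaf.stalkSpecializes (specializes_of_eq e) ≫ f.stalkMap (genericPoint X)).hom)

include e in
theorem gen_mem {W : Y.Opens} {y : Y} (hy : y ∈ W) : genericPoint X ∈ f ⁻¹ᵁ W := by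
  show f (genericPoint X) ∈ W
  rw [e]
  exact eta_mem hy

theorem ff_gη {W : Y.Opens} {y : Y} (hy : y ∈ W) (r : Γ(Y, W)) :
    ff e (gη hy r) = gη (gen_mem e hy) (f.app W r) := by
  show (f.stalkMap (genericPoint X)).hom ((Y.presheaf.stalkSpecializes (specializes_of_eq e)).hom
    ((Y.presheaf.germ W (genericPoint Y) (eta_mem hy)).hom r)) = _
  rw [show (Y.presheaf.stalkSpecializes (specializes_of_eq e)).hom ((Y.presheaf.germ W (genericPoint Y) (eta_mem hy)).hom r) =
    (Y.presheaf.germ W (f (genericPoint X)) (gen_mem e hy)).hom r from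
    Y.presheaf.germ_stalkSpecializes_apply (eta_mem hy) (specializes_of_eq e) r]
  exact Scheme.Hom.germ_stalkMap_apply f W (genericPoint X) _ r

/-- The trace of function fields. -/
def trK : X.functionField → Y.functionField := fun z =>
  letI := (ff e).toAlgebra
  Algebra.trace Y.functionField X.functionField z

theorem trK_add (a b : X.functionField) : trK e (a + b) = trK e a + trK e b :=
  letI := (ff e).toAlgebra
  map_add (Algebra.trace Y.functionField X.functionField) a b

theorem trK_mul (c : Y.functionField) (a : X.functionField) : trK e (ff e c * a) = c * trK e a :=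
  letI := (ff e).toAlgebra
  map_smul (Algebra.trace Y.functionField X.functionField) c a

variable [IsFinite f]

include e in
theorem finiteDimensional (halg : letI := (ff e).toAlgebra; Algebra.IsAlgebraic Y.functionField X.functionField) :
    letI := (ff e).toAlgebra; FiniteDimensional Y.functionField X.functionField := by
  classical
  letI := (ff e).toAlgebra
  obtain ⟨_, ⟨V, hV, rfl⟩, hyV, -⟩ :=
    Y.isBasis_affineOpens.exists_subset_of_mem_open (Set.mem_univ (genericPoint Y)) isOpen_univ
  have hx := gen_mem e (W := V) hyV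
  let W := f ⁻¹ᵁ V
  haveI : Nonempty W := ⟨⟨_, hx⟩⟩
  let χ : Γ(X, W) →+* X.functionField := gη hx
  haveI : IsFractionRing Γ(X, W) X.functionField :=
    functionField_isFractionRing_of_isAffineOpen X W (hV.preimage f)
  have hfin : (f.app V).hom.Finite := f.finite_app V hV
  letI := (f.app V).hom.toAlgebra
  haveI : Module.Finite Γ(Y, V) Γ(X, W) := hfin
  obtain ⟨S, hS⟩ := Module.Finite.fg_top (R := Γ(Y, V)) (M := Γ(X, W))
  let T := Algebra.adjoin Y.functionField (χ '' (S : Set Γ(X, W)))
  have hT : T = ⊤ := by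
    refine eq_top_of_generated χ (fun z => ?_) T (fun a => ?_) fun x => Algebra.IsAlgebraic.isAlgebraic x
    · obtain ⟨⟨a, b⟩, h⟩ := IsLocalization.surj (nonZeroDivisors Γ(X, W)) z
      refine ⟨a, b, ?_, h⟩
      exact IsFractionRing.to_map_ne_zero_of_mem_nonZeroDivisors b.2
    · have ha : a ∈ Submodule.span Γ(Y, V) (S : Set Γ(X, W)) := hS ▸ trivial
      induction ha using Submodule.span_induction with
      | mem x hxS => exact Algebra.subset_adjoin ⟨x, hxS, rfl⟩
      | zero => rw [map_zero]; exact T.zero_mem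
      | add x y _ _ h1 h2 => rw [map_add]; exact T.add_mem h1 h2
      | smul r x _ h1 =>
        rw [show r • x = (f.app V).hom r * x from rfl, map_mul,
          show χ ((f.app V).hom r) = ff e (gη hyV r) from (ff_gη e hyV r).symm]
        exact T.mul_mem (T.algebraMap_mem (gη hyV r)) h1
  have h := fg_adjoin_of_finite (R := Y.functionField) ((S.finite_toSet).image χ) fun x _ =>
    (Algebra.IsAlgebraic.isAlgebraic x).isIntegral
  rw [show Algebra.adjoin Y.functionField (χ '' (S : Set Γ(X, W))) = ⊤ from hT, Algebra.top_toSubmodule] at h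
  exact ⟨h⟩

variable (hY : Pi1.IsNormalScheme Y)

include hY in
theorem inR_trK (hfd : letI := (ff e).toAlgebra; FiniteDimensional Y.functionField X.functionField)
    {W : Y.Opens} {y : Y} (hy : y ∈ W) (s : Γ(X, f ⁻¹ᵁ W)) : InR y (trK e (gη (gen_mem e hy) s)) := by
  letI := (ff e).toAlgebra
  haveI := hfd
  obtain ⟨_, ⟨V, hV, rfl⟩, hyV, hVW⟩ := Y.isBasis_affineOpens.exists_subset_of_mem_open hy W.2
  let s' := X.presheaf.map (homOfLE ((Opens.map f.base).map (homOfLE (show V ≤ W from hVW))).le).op s
  have hs : gη (gen_mem e hyV) s' = gη (gen_mem e hy) s :=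
    gη_res _ (gen_mem e hyV) (gen_mem e hy) s
  rw [← hs]
  let ψ : Γ(Y, V) →+* Y.functionField := gη hyV
  letI : Algebra Γ(Y, V) Y.functionField := ψ.toAlgebra
  letI : Algebra Γ(Y, V) X.functionField := ((ff e).comp ψ).toAlgebra
  haveI : IsScalarTower Γ(Y, V) Y.functionField X.functionField := IsScalarTower.of_algebraMap_eq fun _ => rfl
  have hint : IsIntegral Γ(Y, V) (gη (gen_mem e hyV) s') := by
    obtain ⟨p, hp, hps⟩ := Lib.NormalPush.isIntegral_app f hV s'
    refine ⟨p, hp, ?_⟩
    have h1 := congrArg (gη (gen_mem e hyV)) hps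
    rw [map_zero, Polynomial.hom_eval₂] at h1
    rwa [show algebraMap Γ(Y, V) X.functionField = (gη (gen_mem e hyV)).comp (f.app V).hom from
      RingHom.ext fun r => ff_gη e hyV r]
  obtain ⟨q, hq, hq0⟩ := (Algebra.isIntegral_trace (L := Y.functionField) hint :
    IsIntegral Γ(Y, V) (trK e (gη (gen_mem e hyV) s')))
  haveI : IsDomain (Y.presheaf.stalk y) := (hY y).1
  haveI : IsIntegrallyClosed (Y.presheaf.stalk y) := (hY y).2
  haveI : Nonempty V := ⟨⟨y, hyV⟩⟩
  have h2 : IsIntegral (Y.presheaf.stalk y) (trK e (gη (gen_mem e hyV) s')) := by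
    refine ⟨q.map (Y.presheaf.germ V y hyV).hom, hq.map _, ?_⟩
    rw [Polynomial.eval₂_map, show (algebraMap (Y.presheaf.stalk y) Y.functionField).comp (Y.presheaf.germ V y hyV).hom =
      algebraMap Γ(Y, V) Y.functionField from RingHom.ext fun r => Y.algebraMap_germ_eq_germToFunctionField hyV r]
    exact hq0
  obtain ⟨a, ha⟩ := IsIntegrallyClosed.isIntegral_iff.1 h2
  exact ⟨a, ha⟩

variable [hfd : Fact (letI := (ff e).toAlgebra; FiniteDimensional Y.functionField X.functionField)]

theorem ext_gη {W : Y.Opens} {r r' : Γ(Y, W)} (h : ∀ {y : Y} (hy : y ∈ W), gη hy r = gη hy r') : r = r' := by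
  refine eq_of_locally (M := Coh.structureModule Y) _ _ fun p hp => ⟨W, le_rfl, hp, ?_⟩
  exact congrArg _ (gη_injective hp (h hp))

include hY in
theorem exists_tr (W : Y.Opens) (s : Γ(X, f ⁻¹ᵁ W)) :
    ∃ r : Γ(Y, W), ∀ {y : Y} (hy : y ∈ W), gη hy r = trK e (gη (gen_mem e hy) s) := by
  by_cases hW : ∃ y, y ∈ W
  · obtain ⟨y₀, hy₀⟩ := hW
    obtain ⟨r, hr⟩ := exists_of_forall_inR (W := W) (c := trK e (gη (gen_mem e hy₀) s))
      fun z hz => inR_trK e hY hfd.out hz s
    exact ⟨r, fun hy => hr hy⟩
  · exact ⟨0, fun {y} hy => absurd ⟨y, hy⟩ hW⟩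

/-- The trace on sections. -/
def tr (W : Y.Opens) (s : Γ(X, f ⁻¹ᵁ W)) : Γ(Y, W) := (exists_tr e hY W s).choose

theorem gη_tr {W : Y.Opens} (s : Γ(X, f ⁻¹ᵁ W)) {y : Y} (hy : y ∈ W) :
    gη hy (tr e hY W s) = trK e (gη (gen_mem e hy) s) := (exists_tr e hY W s).choose_spec hy

theorem tr_add (W : Y.Opens) (a b : Γ(X, f ⁻¹ᵁ W)) : tr e hY W (a + b) = tr e hY W a + tr e hY W b :=
  ext_gη fun hy => by rw [map_add, gη_tr, gη_tr, gη_tr, map_add, trK_add]

theorem tr_mul (W : Y.Opens) (r : Γ(Y, W)) (a : Γ(X, f ⁻¹ᵁ W)) :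
    tr e hY W ((f.app W).hom r * a) = r * tr e hY W a :=
  ext_gη fun hy => by rw [map_mul, gη_tr, gη_tr, map_mul, ← trK_mul e, ← ff_gη e hy r]

/-- The trace as a map of modules. -/
def trHom : (Scheme.Modules.pushforward f).obj (Coh.structureModule X) ⟶ Coh.structureModule Y :=
  ⟨PresheafOfModules.homMk
    { app := fun W => AddCommGrpCat.ofHom (AddMonoidHom.mk' (tr e hY W.unop) (tr_add e hY W.unop))
      naturality := fun W W' i => by
        ext a
        refine ext_gη (W := W'.unop) fun {y} hy => ?_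
        refine (gη_tr e hY _ hy).trans (Eq.trans ?_ (gη_res i.unop.le hy (i.unop.le hy) _).symm)
        refine Eq.trans ?_ (gη_tr e hY (W := W.unop) _ (i.unop.le hy)).symm
        exact congrArg (trK e) (gη_res ((Opens.map f.base).map i.unop).le (gen_mem e hy) (gen_mem e (i.unop.le hy)) _) }
    (fun W r a => tr_mul e hY W.unop r a)⟩

theorem gη_trHom {W : Y.Opens} (s : Γ(X, f ⁻¹ᵁ W)) {y : Y} (hy : y ∈ W) :
    gη hy (show Γ(Y, W) from (trHom e hY).app W s) = trK e (gη (gen_mem e hy) s) := gη_tr e hY s hy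

end Groth.Agent.CurveTrace
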