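import Mathlib.RingTheory.Trace.Basic
import Mathlib.FieldTheory.IntermediateField.Adjoin.Algebra
import Mathlib.RingTheory.Adjoin.Basic
import Mathlib.LinearAlgebra.Matrix.NonsingularInverse

/-!
Constants in a separable extension: coordinates of algebraic elements are algebraic.
-/

set_option autoImplicit false

noncomputable section

namespace Groth.Agent.CurveTrace

open Matrix

variable {k F L : Type*} [Field k] [Field F] [Field L] [Algebra k F] [Algebra k L] [Algebra F L]
  [IsScalarTower k F L] [FiniteDimensional F L] [Algebra.IsSeparable F L]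

theorem integral_solve {n : ℕ} (M : Matrix (Fin n) (Fin n) F) (hM : ∀ i j, IsIntegral k (M i j)) (hdet : M.det ≠ 0)
    (c : Fin n → F) (h : ∀ j, IsIntegral k ((c ᵥ* M) j)) (i : Fin n) : IsIntegral k (c i) := by
  let M₀ : Matrix (Fin n) (Fin n) (integralClosure k F) := Matrix.of fun i j => ⟨M i j, hM i j⟩
  have e : M₀.map (integralClosure k F).val = M := rfl
  have hd : IsIntegral k M.det := by
    rw [← e]
    exact ((integralClosure k F).val.map_det M₀).symm ▸ M₀.det.2
  have ha : ∀ i j, IsIntegral k (M.adjugate i j) := fun i j => by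
    rw [← e, show (M₀.map (integralClosure k F).val).adjugate = M₀.adjugate.map (integralClosure k F).val from
      ((integralClosure k F).val.toRingHom.map_adjugate M₀).symm]
    exact (M₀.adjugate i j).2
  have hc : c ᵥ* M ᵥ* M.adjugate = M.det • c := by
    rw [Matrix.vecMul_vecMul, Matrix.mul_adjugate, Matrix.vecMul_smul, Matrix.vecMul_one]
  have h1 : IsIntegral k (M.det * c i) := by
    rw [show M.det * c i = ((c ᵥ* M) ᵥ* M.adjugate) i by rw [hc]; rfl]
    exact IsIntegral.sum (fun j => (c ᵥ* M) j * M.adjugate j i) (s := Finset.univ) fun j _ => (h j).mul (ha j i)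
  have := hd.inv.mul h1
  rwa [inv_mul_cancel_left₀ hdet] at this

/-- A family in a subalgebra of algebraic elements giving algebraic coordinates. -/
theorem exists_family (B : Subalgebra k L) (hB : ∀ b ∈ B, IsIntegral k b) :
    ∃ (m : ℕ) (a : Fin m → L), 0 < m ∧ (∀ i, a i ∈ B) ∧ LinearIndependent F a ∧
      ∀ b ∈ B, ∃ c : Fin m → F, (∀ i, IsIntegral k (c i)) ∧ b = ∑ i, algebraMap F L (c i) * a i := by
  classical
  obtain ⟨S, hS, hspan, hli⟩ := exists_linearIndependent F (B : Set L)
  haveI : Fintype S := hli.setFinite.fintype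
  let a : Fin (Fintype.card S) → L := fun i => ((Fintype.equivFin S).symm i : L)
  have hli' : LinearIndependent F a := hli.comp _ (Fintype.equivFin S).symm.injective
  let E := IntermediateField.adjoin F (B : Set L)
  have hra : Set.range a = S := by
    ext x; simp only [a, Set.mem_range]
    exact ⟨fun ⟨i, hi⟩ => hi ▸ ((Fintype.equivFin S).symm i).2, fun hx => ⟨Fintype.equivFin S ⟨x, hx⟩, by simp⟩⟩
  have hE : Subalgebra.toSubmodule E.toSubalgebra = Submodule.span F (B : Set L) := by
    rw [IntermediateField.adjoin_toSubalgebra_of_isAlgebraic fun x _ => Algebra.IsAlgebraic.isAlgebraic x,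
      Algebra.adjoin_eq_span]
    exact congrArg (fun T : Submonoid L => Submodule.span F (T : Set L)) (Submonoid.closure_eq B.toSubmonoid)
  have hsub : (B : Set L) ⊆ E := IntermediateField.subset_adjoin F _
  let a' : Fin (Fintype.card S) → E := fun i => ⟨a i, hsub (hS ((Fintype.equivFin S).symm i).2)⟩
  have hli'' : LinearIndependent F a' := LinearIndependent.of_comp E.val.toLinearMap hli'
  have hsp : ⊤ ≤ Submodule.span F (Set.range a') := fun x _ => by
    have hx : (x : L) ∈ Submodule.span F (Set.range a) := by
      rw [hra, hspan, ← hE]; exact x.2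
    obtain ⟨c, hc⟩ := (Submodule.mem_span_range_iff_exists_fun F).1 hx
    exact (Submodule.mem_span_range_iff_exists_fun F).2 ⟨c, Subtype.ext (by simpa [a'] using hc)⟩
  let β := Module.Basis.mk hli'' hsp
  refine ⟨_, a, ?_, fun i => hS ((Fintype.equivFin S).symm i).2, hli', fun b hb => ?_⟩
  · rw [Fintype.card_pos_iff]
    by_contra hne
    rw [not_nonempty_iff] at hne
    have h1 : (1 : L) ∈ Submodule.span F S := hspan ▸ Submodule.subset_span B.one_mem
    rw [Set.isEmpty_coe_sort.1 hne, Submodule.span_empty, Submodule.mem_bot] at h1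
    exact one_ne_zero h1
  let b' : E := ⟨b, hsub hb⟩
  have hint : ∀ x : E, (x : L) ∈ B → IsIntegral k x := fun x hx =>
    (isIntegral_algHom_iff (E.val.restrictScalars k) Subtype.val_injective).1 (hB _ hx)
  have hsum : b' = ∑ i, β.repr b' i • a' i := by
    conv_lhs => rw [← β.sum_repr b']
    exact Finset.sum_congr rfl fun i _ => by rw [Module.Basis.mk_apply]
  refine ⟨fun i => β.repr b' i, integral_solve (Algebra.traceMatrix F a') (fun i j => ?_) ?_ _ (fun j => ?_), ?_⟩
  · rw [Algebra.traceMatrix_apply, Algebra.traceForm_apply]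
    exact Algebra.isIntegral_trace ((hint _ (hS ((Fintype.equivFin S).symm i).2)).mul
      (hint _ (hS ((Fintype.equivFin S).symm j).2)))
  · have := det_traceForm_ne_zero β
    rw [← Algebra.traceMatrix_of_basis] at this
    rwa [show (β : Fin (Fintype.card S) → E) = a' from funext fun i => Module.Basis.mk_apply _ _ i] at this
  · have : ((fun i => β.repr b' i) ᵥ* Algebra.traceMatrix F a') j = Algebra.trace F E (b' * a' j) := by
      conv_rhs => rw [hsum, Finset.sum_mul, map_sum]
      simp [Matrix.vecMul, dotProduct, Algebra.traceMatrix_apply, Algebra.traceForm_apply]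
    rw [this]
    exact Algebra.isIntegral_trace ((hint b' hb).mul (hint _ (hS ((Fintype.equivFin S).symm j).2)))
  · have := congrArg (Subtype.val : E → L) hsum
    simpa [b', a', Algebra.smul_def] using this

/-- Functionals on an independent family are traces. -/
theorem exists_trace_eq {m : ℕ} {a : Fin m → L} (ha : LinearIndependent F a) (c : Fin m → F) :
    ∃ z : L, ∀ i, Algebra.trace F L (a i * z) = c i := by
  let β := Module.Basis.span ha
  obtain ⟨g, hg⟩ := LinearMap.exists_extend (β.constr F c)
  refine ⟨((Algebra.traceForm F L).toDual (traceForm_nondegenerate F L)).symm g, fun i => ?_⟩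
  rw [mul_comm, ← Algebra.traceForm_apply, LinearMap.BilinForm.apply_toDual_symm_apply]
  have h2 := LinearMap.congr_fun hg (β i)
  rw [Module.Basis.constr_basis, LinearMap.comp_apply, Submodule.subtype_apply, Module.Basis.span_apply] at h2
  exact h2

omit [FiniteDimensional F L] [Algebra.IsSeparable F L] in
/-- A subalgebra containing a ring that generates the field is everything. -/
theorem eq_top_of_generated {A : Type*} [CommRing A] (χ : A →+* L)
    (hgen : ∀ z : L, ∃ a b : A, χ b ≠ 0 ∧ z * χ b = χ a) (T : Subalgebra F L) (hT : ∀ a, χ a ∈ T)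
    (halg : ∀ x : L, IsAlgebraic F x) : T = ⊤ := by
  refine eq_top_iff.2 fun z _ => ?_
  obtain ⟨a, b, hb, h⟩ := hgen z
  rw [show z = χ a * (χ b)⁻¹ by rw [← h, mul_assoc, mul_inv_cancel₀ hb, mul_one]]
  exact T.mul_mem (hT a) (T.inv_mem_of_algebraic (x := ⟨χ b, hT b⟩) (halg (χ b)))

end Groth.Agent.CurveTrace
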