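import Groth.Agent.CurveTrace.Trace
import Groth.Agent.Lib.CurveDualPrep
import Groth.Agent.CurveCohLib.Skyscraper
import Groth.Agent.PnCoh.PushNat
import Groth.Agent.QCoh.DevissageSum
import Groth.Agent.Snapper.IsoOn
import Groth.Agent.Snapper.DimVanish

/-!
The arithmetic genus does not grow along finite separable morphisms of normal curves.
-/

set_option autoImplicit false
set_option linter.style.haveILetI false
set_option linter.unusedSectionVars false
set_option backward.isDefEq.respectTransparency false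
set_option backward.isDefEq.respectTransparency.types false
set_option maxHeartbeats 1000000

universe u

open CategoryTheory CategoryTheory.Limits AlgebraicGeometry TopologicalSpace Opposite
open Groth.Agent.CurveCohLib Groth.Agent.CurveCohLib.Polar Groth.Agent.AModX Groth.Agent.InvX
open Groth.Agent.PnCoh.Finite (mapLin)

noncomputable section

namespace Groth.Agent.CurveTrace

variable (k : Type u) [Field k] {X Y : Scheme.{u}}
  [X.Over (Spec (CommRingCat.of k))] [Y.Over (Spec (CommRingCat.of k))]

/-- A scalar as a function. -/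
abbrev top' (Z : Scheme.{u}) [Z.Over (Spec (CommRingCat.of k))] : k →+* Γ(Z, ⊤) :=
  (Coh.resTop Z (op ⊤)).comp (Coh.toGlobal (Z ↘ Spec (CommRingCat.of k)))

theorem top'_eq (Z : Scheme.{u}) [Z.Over (Spec (CommRingCat.of k))] :
    top' k Z = ((Z ↘ Spec (CommRingCat.of k)).appTop).hom.comp (Scheme.ΓSpecIso (CommRingCat.of k)).inv.hom :=
  RingHom.ext fun _ => ConcreteCategory.congr_hom (Z.presheaf.map_id (op ⊤)) _

/-- A global function as a rational function. -/
abbrev gT (Z : Scheme.{u}) [IsIntegral Z] : Γ(Z, ⊤) →+* Z.functionField :=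
  gη (W := (⊤ : Z.Opens)) (x := genericPoint Z) (Set.mem_univ _)

/-- A scalar as a rational function. -/
abbrev cst (Z : Scheme.{u}) [IsIntegral Z] [Z.Over (Spec (CommRingCat.of k))] : k →+* Z.functionField :=
  (gT Z).comp (top' k Z)

variable [IsIntegral X]

/-- The value of a class in degree zero at the generic point. -/
def eval0 : letI := (cst k X).toAlgebra; Coh.HH X (Coh.structureModule X) 0 →ₗ[k] X.functionField :=
  letI := (cst k X).toAlgebra
  { toFun := fun t => gT X
      (show Γ(X, ⊤) from Sheaf.H.equiv₀ (Coh.toAb (Coh.structureModule X)) isTerminalTop t)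
    map_add' := fun a b => by
      rw [← map_add]
      exact congrArg _ (map_add (Sheaf.H.equiv₀ (Coh.toAb (Coh.structureModule X)) isTerminalTop) a b)
    map_smul' := fun a t => by
      rw [RingHom.id_apply, Algebra.smul_def]
      exact (congrArg (gT X) (h0Equiv_smul (Coh.structureModule X) a t)).trans
        (map_mul _ _ _) }

theorem eval0_apply (t : Coh.HH X (Coh.structureModule X) 0) :
    eval0 k t = gT X
      (show Γ(X, ⊤) from Sheaf.H.equiv₀ (Coh.toAb (Coh.structureModule X)) isTerminalTop t) := rfl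

theorem eval0_injective : Function.Injective (eval0 k (X := X)) := fun a b h =>
  (Sheaf.H.equiv₀ (Coh.toAb (Coh.structureModule X)) isTerminalTop).injective (gη_injective _ h)

theorem exists_eval0 (r : Γ(X, ⊤)) : ∃ t, eval0 k t = gT X r :=
  ⟨(Sheaf.H.equiv₀ (Coh.toAb (Coh.structureModule X)) isTerminalTop).symm r, by
    rw [eval0_apply, AddEquiv.apply_symm_apply]⟩

variable [IsIntegral Y] [IsProper (X ↘ Spec (CommRingCat.of k))] [IsProper (Y ↘ Spec (CommRingCat.of k))]
  {f : X ⟶ Y} (e : f (genericPoint X) = genericPoint Y)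

theorem ff_cst (hf : f ≫ (Y ↘ Spec (CommRingCat.of k)) = X ↘ Spec (CommRingCat.of k)) (a : k) :
    ff e (cst k Y a) = cst k X a := by
  show ff e (gT Y (top' k Y a)) = gT X (top' k X a)
  rw [ff_gη e (W := ⊤) (y := genericPoint Y) (Set.mem_univ _), top'_eq k X, top'_eq k Y]
  have h : (X ↘ Spec (CommRingCat.of k)).appTop = (Y ↘ Spec (CommRingCat.of k)).appTop ≫ f.appTop := by
    rw [← Scheme.Hom.comp_appTop, hf]
  simp only [RingHom.comp_apply]
  rw [h, CommRingCat.hom_comp]
  rfl

theorem isIntegral_gη (r : Γ(X, ⊤)) :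
    letI := (cst k X).toAlgebra; _root_.IsIntegral k (gT X r) := by
  letI := (cst k X).toAlgebra
  obtain ⟨p, hp, hps⟩ := isIntegral_appTop_of_universallyClosed (X ↘ Spec (CommRingCat.of k)) r
  let g := (Scheme.ΓSpecIso (CommRingCat.of k)).hom.hom
  refine ⟨p.map g, hp.map g, ?_⟩
  have h1 := congrArg (gT X) hps
  rw [map_zero, Polynomial.hom_eval₂] at h1
  rw [Polynomial.eval₂_map, show (algebraMap k X.functionField).comp g =
    (gT X).comp ((X ↘ Spec (CommRingCat.of k)).appTop).hom from RingHom.ext fun s => ?_]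
  · exact h1
  · show gη _ (top' k X (g s)) = _
    rw [top'_eq]
    simp only [RingHom.comp_apply, g]
    exact congrArg (fun z => gT X ((X ↘ Spec (CommRingCat.of k)).appTop.hom z))
      (ConcreteCategory.congr_hom (Scheme.ΓSpecIso (CommRingCat.of k)).hom_inv_id s)

theorem exists_of_isIntegral (hY : Pi1.IsNormalScheme Y) {c : Y.functionField}
    (hc : letI := (cst k Y).toAlgebra; _root_.IsIntegral k c) :
    ∃ r : Γ(Y, ⊤), gT Y r = c := by
  letI := (cst k Y).toAlgebra
  obtain ⟨p, hp, hps⟩ := hc
  obtain ⟨r, hr⟩ := exists_of_forall_inR (W := (⊤ : Y.Opens)) (c := c) fun z _ => by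
    haveI : IsDomain (Y.presheaf.stalk z) := (hY z).1
    haveI : IsIntegrallyClosed (Y.presheaf.stalk z) := (hY z).2
    haveI : Nonempty (⊤ : Y.Opens) := ⟨⟨z, trivial⟩⟩
    let γ := ((Y.presheaf.germ ⊤ z (Set.mem_univ z)).hom).comp (top' k Y)
    have : IsIntegral (Y.presheaf.stalk z) c := ⟨p.map γ, hp.map γ, by
      rw [Polynomial.eval₂_map, show (algebraMap (Y.presheaf.stalk z) Y.functionField).comp γ = algebraMap k Y.functionField from
        RingHom.ext fun a => Y.algebraMap_germ_eq_germToFunctionField (U := ⊤) (Set.mem_univ z) (top' k Y a)]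
      exact hps⟩
    obtain ⟨a, ha⟩ := IsIntegrallyClosed.isIntegral_iff.1 this
    exact ⟨a, ha⟩
  exact ⟨r, hr (Set.mem_univ _)⟩

include k in
/-- The generic point is the only point over the generic point. -/
theorem eq_generic_of_map_eq (hdX : topologicalKrullDim X = 1) (hdY : topologicalKrullDim Y = 1) [IsFinite f]
    {x : X} (hx : f x = genericPoint Y) : x = genericPoint X := by
  by_contra hne
  haveI := CurveCohLib.isNoetherian_of_proper (k := k) (X := X)
  have hcl : IsClosed ({x} : Set X) := by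
    by_contra hc
    exact hne (CurveCohLib.eq_genericPoint_of_not_isClosed hdX hc)
  have hY1 : IsClosed ({genericPoint Y} : Set Y) := by
    have := f.isClosedMap _ hcl
    rwa [Set.image_singleton, hx] at this
  haveI : Subsingleton Y := by
    have h : closure ({genericPoint Y} : Set Y) = Set.univ := genericPoint_spec Y
    rw [hY1.closure_eq] at h
    exact ⟨fun a b => ((Set.eq_univ_iff_forall.1 h a).trans (Set.eq_univ_iff_forall.1 h b).symm)⟩
  have h0 : topologicalKrullDim Y = 0 := by
    haveI : Nonempty Y := ⟨genericPoint Y⟩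
    exact le_antisymm (topologicalKrullDim_zero_of_discreteTopology Y) (by rw [hdY]; exact zero_le_one)
  rw [hdY] at h0
  exact one_ne_zero h0

variable [IsFinite f] (hY : Pi1.IsNormalScheme Y)
  [hfd : Fact (letI := (ff e).toAlgebra; FiniteDimensional Y.functionField X.functionField)]
  {m : ℕ}

/-- Multiplication by a function followed by the trace. -/
def trMul (σ : Γ(X, ⊤)) : (Scheme.Modules.pushforward f).obj (Coh.structureModule X) ⟶ Coh.structureModule Y :=
  (Scheme.Modules.pushforward f).map (InvX.ofSect (M := Coh.structureModule X) σ) ≫ trHom e hY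

theorem gη_trMul (σ : Γ(X, ⊤)) {W : Y.Opens} (s : Γ(X, f ⁻¹ᵁ W)) {y : Y} (hy : y ∈ W) :
    gη hy (show Γ(Y, W) from (trMul e hY σ).app W s) =
      trK e (gT X σ * gη (gen_mem e hy) s) := by
  refine (gη_trHom e hY ((InvX.ofSect (M := Coh.structureModule X) σ).app (f ⁻¹ᵁ W) s) hy).trans (congrArg (trK e) ?_)
  rw [InvX.app_eq_smul, InvX.one_ofSect]
  refine (map_mul (gη (gen_mem e hy)) _ _).trans ((mul_comm _ _).trans (congrArg (· * _) ?_))
  exact gη_res _ (gen_mem e hy) (Set.mem_univ _) σ

/-- The family of traces. -/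
def trPi (σ : Fin m → Γ(X, ⊤)) :
    (Scheme.Modules.pushforward f).obj (Coh.structureModule X) ⟶ ⨁ fun _ : ULift.{u} (Fin m) => Coh.structureModule Y :=
  biproduct.lift fun i => trMul e hY (σ i.down)

include k in
theorem notMem_support_cokernel_trPi (hdX : topologicalKrullDim X = 1) (hdY : topologicalKrullDim Y = 1)
    (hsep : letI := (ff e).toAlgebra; Algebra.IsSeparable Y.functionField X.functionField)
    (σ : Fin m → Γ(X, ⊤))
    (hli : letI := (ff e).toAlgebra; LinearIndependent Y.functionField fun i => gT X (σ i)) :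
    genericPoint Y ∉ CohB1.support (cokernel (trPi e hY σ)) := by
  letI := (ff e).toAlgebra
  haveI := hfd.out
  haveI := hsep
  refine Snapper.notMem_support_cokernel _ ((ModuleCat.epi_iff_surjective _).2 fun q => ?_)
  let T := fun _ : ULift.{u} (Fin m) => Coh.structureModule Y
  obtain ⟨W, hηW, q', rfl⟩ := (⨁ T).presheaf.germ_exist q
  let c : Fin m → Y.functionField := fun i => gη hηW (show Γ(Y, W) from (biproduct.π T ⟨i⟩).app W q')
  obtain ⟨z, hz⟩ := exists_trace_eq hli c
  obtain ⟨U, hηU, u₀, hu₀⟩ := X.presheaf.germ_exist z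
  let Wc : Y.Opens := ⟨(f '' (U : Set X)ᶜ)ᶜ, (f.isClosedMap _ U.2.isClosed_compl).isOpen_compl⟩
  let W' := W ⊓ Wc
  have hηW' : genericPoint Y ∈ W' := ⟨hηW, fun ⟨x, hxU, hx⟩ => hxU (eq_generic_of_map_eq k hdX hdY hx ▸ hηU)⟩
  have hle : f ⁻¹ᵁ W' ≤ U := fun x hx => by
    by_contra h
    exact hx.2 ⟨x, h, rfl⟩
  let s : Γ(X, f ⁻¹ᵁ W') := X.presheaf.map (homOfLE hle).op u₀
  refine ⟨((Scheme.Modules.pushforward f).obj (Coh.structureModule X)).presheaf.germ W' (genericPoint Y) hηW' s, ?_⟩
  refine (TopCat.Presheaf.stalkFunctor_map_germ_apply W' (genericPoint Y) hηW'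
    ((Scheme.Modules.toPresheaf Y).map (trPi e hY σ)) s).trans ?_
  refine Eq.trans ?_ ((⨁ T).presheaf.germ_res_apply (homOfLE (inf_le_left : W' ≤ W)) (genericPoint Y) hηW' q')
  refine congrArg ((⨁ T).presheaf.germ W' (genericPoint Y) hηW') ?_
  have key : ∀ i : ULift.{u} (Fin m), (biproduct.π T i).app W' ((trPi e hY σ).app W' s) =
      (biproduct.π T i).app W' (AModX.res (⨁ T) (inf_le_left : W' ≤ W) q') := fun i => by
    have h1 : (biproduct.π T i).app W' ((trPi e hY σ).app W' s) = (trMul e hY (σ i.down)).app W' s := by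
      rw [show trMul e hY (σ i.down) = trPi e hY σ ≫ biproduct.π T i from
        (biproduct.lift_π (fun i : ULift.{u} (Fin m) => trMul e hY (σ i.down)) i).symm]
      rfl
    refine gη_injective (x := genericPoint Y) hηW' (h1.symm ▸ (gη_trMul e hY (σ i.down) s hηW').trans ?_)
    rw [show gη (gen_mem e hηW') s = z from (gη_res hle (gen_mem e hηW') hηU u₀).trans hu₀]
    refine (hz i.down).trans ((gη_res (inf_le_left : W' ≤ W) hηW' hηW _).symm.trans ?_)
    exact congrArg (gη hηW') ((AModX.app_res (biproduct.π T i) _ q').symm)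
  have tot : ∀ x : Γ(⨁ T, W'), x = ∑ b, (biproduct.π T b ≫ biproduct.ι T b).app W' x := fun x => by
    refine Eq.trans ?_ (QCoh.app_sum Finset.univ (fun b => biproduct.π T b ≫ biproduct.ι T b) W' x)
    rw [QCoh.biproduct_total']
    rfl
  refine ((tot _).trans (Finset.sum_congr rfl fun i _ => ?_)).trans (tot _).symm
  exact congrArg ((biproduct.ι T i).app W') (key i)

include k in
theorem surjective_trPi (hdX : topologicalKrullDim X = 1) (hdY : topologicalKrullDim Y = 1)
    (hsep : letI := (ff e).toAlgebra; Algebra.IsSeparable Y.functionField X.functionField)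
    (σ : Fin m → Γ(X, ⊤))
    (hli : letI := (ff e).toAlgebra; LinearIndependent Y.functionField fun i => gT X (σ i)) :
    Function.Surjective (mapLin k (trPi e hY σ) 1) := by
  haveI := CurveCohLib.isNoetherian_of_proper (k := k) (X := Y)
  haveI := CurveCohLib.isNoetherian_of_proper (k := k) (X := X)
  let T := fun _ : ULift.{u} (Fin m) => Coh.structureModule Y
  have hT : Coh.IsCoh (⨁ T) := QCoh.isCoh_biproduct T fun _ => QCoh.isCoh_structureModule'
  have hP : Coh.IsCoh ((Scheme.Modules.pushforward f).obj (Coh.structureModule X)) :=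
    QCoh.isCoh_pushforward_finite f QCoh.isCoh_structureModule'
  let φ := trPi e hY σ
  have hC : Coh.IsCoh (cokernel φ) := QCoh.isCoh_cokernel hP.1 hT φ
  have h0 := notMem_support_cokernel_trPi k e hY hdX hdY hsep σ hli
  have hcl : ∀ x ∈ CohB1.support (cokernel φ), IsClosed ({x} : Set Y) := fun x hx => by
    by_contra hxc
    obtain rfl := CurveCohLib.eq_genericPoint_of_not_isClosed hdY hxc
    exact h0 hx
  haveI := CurveVanish.subsingleton_HH_of_finite
    (CurveCohLib.finite_of_closedPoints (QCoh.isClosed_support_of_isFT hC.1 hC.2) hcl) hcl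
    (fun x hx => not_not.1 hx) 0
  have hS2 : (ShortComplex.mk (Abelian.image.ι φ) (cokernel.π φ) (kernel.condition _)).ShortExact :=
    { exact := ShortComplex.exact_of_f_is_kernel _ (kernelIsKernel (cokernel.π φ))
      mono_f := inferInstance
      epi_g := inferInstance }
  have hS1 : (ShortComplex.mk (kernel.ι φ) (Abelian.factorThruImage φ)
      ((cancel_mono (Abelian.image.ι φ)).1 (by rw [Category.assoc, Abelian.image.fac, kernel.condition, zero_comp]))).ShortExact :=
    { exact := ShortComplex.exact_of_f_is_kernel _ (KernelFork.IsLimit.ofι' _ _ fun {T} t ht =>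
        ⟨kernel.lift φ t (by rw [← Abelian.image.fac φ, reassoc_of% ht, zero_comp]), kernel.lift_ι _ _ _⟩)
      mono_f := inferInstance
      epi_g := inferInstance }
  intro y
  obtain ⟨w, rfl⟩ := (CurveCohLib.ker_mapLin_g k hS2 1).le
    (LinearMap.mem_ker.2 (Subsingleton.elim (mapLin k (cokernel.π φ) 1 y) 0))
  haveI : Subsingleton (Coh.HH Y (kernel φ) (1 + 1)) :=
    CurveVanish.subsingleton_HH_curve k hdY.le (QCoh.isQCoh_kernel hP.1 hT.1 φ) 0
  obtain ⟨v, rfl⟩ := (CurveCohLib.ker_deltaLin k hS1 1).le (LinearMap.mem_ker.2 (Subsingleton.elim (PnCoh.Finite.deltaLin k hS1 1 w) 0))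
  refine ⟨v, (PnCoh.Finite.map_map (Y := Y.toPresheafedSpace.carrier) ?_ 1 v).symm⟩
  show (QCoh.toAbFunctor Y).map _ ≫ (QCoh.toAbFunctor Y).map _ = (QCoh.toAbFunctor Y).map φ
  rw [← Functor.map_comp, Abelian.image.fac]

theorem mapLin_comp_apply {Z : Scheme.{u}} [Z.Over (Spec (CommRingCat.of k))] {A B C : Z.Modules} (a : A ⟶ B)
    (b : B ⟶ C) (n : ℕ) (x : Coh.HH Z A n) : mapLin k b n (mapLin k a n x) = mapLin k (a ≫ b) n x :=
  PnCoh.Finite.map_map (Y := Z.toPresheafedSpace.carrier) ((QCoh.toAbFunctor Z).map_comp a b).symm n x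

include k in
theorem card_mul_h1_le (hdX : topologicalKrullDim X = 1) (hdY : topologicalKrullDim Y = 1)
    (hf : f ≫ (Y ↘ Spec (CommRingCat.of k)) = X ↘ Spec (CommRingCat.of k))
    (hsep : letI := (ff e).toAlgebra; Algebra.IsSeparable Y.functionField X.functionField)
    (hYn : Pi1.IsNormalScheme Y) (σ : Fin m → Γ(X, ⊤))
    (hli : letI := (ff e).toAlgebra; LinearIndependent Y.functionField fun i => gT X (σ i)) :
    m * Module.finrank k (Coh.HH Y (Coh.structureModule Y) 1) ≤ Module.finrank k (Coh.HH X (Coh.structureModule X) 1) := by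
  classical
  haveI := CurveCohLib.isNoetherian_of_proper (k := k) (X := Y)
  haveI := CurveCohLib.isNoetherian_of_proper (k := k) (X := X)
  let T := fun _ : ULift.{u} (Fin m) => Coh.structureModule Y
  haveI := CurveCohLib.finite_HH (k := k) (X := X) (M := Coh.structureModule X) QCoh.isCoh_structureModule' 1
  obtain ⟨l⟩ := PnCoh.exists_linearEquiv_push k f hf (M := Coh.structureModule X) QCoh.isCoh_structureModule'.1 1
  let ρ : Coh.HH X (Coh.structureModule X) 1 →ₗ[k] (ULift.{u} (Fin m) → Coh.HH Y (Coh.structureModule Y) 1) :=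
    LinearMap.pi fun i => (mapLin k (biproduct.π T i) 1) ∘ₗ (mapLin k (trPi e hYn σ) 1) ∘ₗ l.toLinearMap
  have hρ : Function.Surjective ρ := fun y => by
    obtain ⟨v, hv⟩ := surjective_trPi k e hYn hdX hdY hsep σ hli (∑ i, mapLin k (biproduct.ι T i) 1 (y i))
    obtain ⟨x, rfl⟩ := l.surjective v
    refine ⟨x, funext fun j => ?_⟩
    show mapLin k (biproduct.π T j) 1 (mapLin k (trPi e hYn σ) 1 (l x)) = y j
    rw [hv, map_sum, Finset.sum_eq_single j]
    · rw [mapLin_comp_apply, biproduct.ι_π_self]
      exact CurveDuality.mapLin_id (X := Y) k _ 1 _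
    · intro i _ hij
      rw [mapLin_comp_apply, biproduct.ι_π_ne T hij]
      exact CurveDuality.mapLin_zero (X := Y) k 1 _
    · simp
  have hle := LinearMap.finrank_le_finrank_of_surjective (f := ρ) hρ
  haveI := CurveCohLib.finite_HH (k := k) (X := Y) (M := Coh.structureModule Y) QCoh.isCoh_structureModule' 1
  rw [Module.finrank_pi_fintype, Finset.sum_const, Finset.card_univ, Fintype.card_ulift, Fintype.card_fin, smul_eq_mul] at hle
  exact hle

include k hY in
theorem euler_le (hdX : topologicalKrullDim X = 1) (hdY : topologicalKrullDim Y = 1)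
    (hf : f ≫ (Y ↘ Spec (CommRingCat.of k)) = X ↘ Spec (CommRingCat.of k))
    (hsep : letI := (ff e).toAlgebra; Algebra.IsSeparable Y.functionField X.functionField)
    (hpa : 0 ≤ 1 - Curv2.euler k X (Coh.structureModule X)) :
    Curv2.euler k X (Coh.structureModule X) ≤ Curv2.euler k Y (Coh.structureModule Y) := by
  haveI := CurveCohLib.isNoetherian_of_proper (k := k) (X := Y)
  haveI := CurveCohLib.isNoetherian_of_proper (k := k) (X := X)
  letI := (ff e).toAlgebra
  haveI := hfd.out
  haveI := hsep
  letI := (cst k X).toAlgebra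
  letI := (cst k Y).toAlgebra
  haveI : IsScalarTower k Y.functionField X.functionField :=
    IsScalarTower.of_algebraMap_eq fun a => (ff_cst k e hf a).symm
  let g : Γ(X, ⊤) →+* X.functionField := gT X
  let B : Subalgebra k X.functionField :=
    { g.range with algebraMap_mem' := fun a => ⟨top' k X a, rfl⟩ }
  obtain ⟨m, a, hm, ha, hli, hgen⟩ := exists_family (F := Y.functionField) B (by
    rintro _ ⟨r, rfl⟩
    exact isIntegral_gη k r)
  choose σ hσ using ha
  have hli' : LinearIndependent Y.functionField fun i => g (σ i) := by rwa [funext hσ]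
  have h1 := card_mul_h1_le k e hdX hdY hf hsep hY σ hli'
  -- constants
  let N : (Fin m → Coh.HH Y (Coh.structureModule Y) 0) →ₗ[k] X.functionField :=
    ∑ i, ((LinearMap.mulLeft k (a i)).comp ((IsScalarTower.toAlgHom k Y.functionField X.functionField).toLinearMap.comp
      ((eval0 k).comp (LinearMap.proj i))))
  have hsub : LinearMap.range (eval0 k (X := X)) ≤ LinearMap.range N := by
    rintro _ ⟨t, rfl⟩
    obtain ⟨c, hc, hsum⟩ := hgen (eval0 k t) ⟨_, rfl⟩
    choose r hr using fun i => exists_of_isIntegral k hY (hc i)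
    choose t' ht' using fun i => exists_eval0 k (r i)
    refine ⟨t', ?_⟩
    rw [hsum]
    simp only [N, LinearMap.sum_apply, LinearMap.comp_apply, LinearMap.proj_apply, LinearMap.mulLeft_apply]
    refine Finset.sum_congr rfl fun i _ => ?_
    rw [ht' i, hr i, mul_comm]
    rfl
  haveI := CurveCohLib.finite_HH (k := k) (X := Y) (M := Coh.structureModule Y) QCoh.isCoh_structureModule' 0
  haveI := CurveCohLib.finite_HH (k := k) (X := X) (M := Coh.structureModule X) QCoh.isCoh_structureModule' 0
  have h0 : Module.finrank k (Coh.HH X (Coh.structureModule X) 0) ≤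
      m * Module.finrank k (Coh.HH Y (Coh.structureModule Y) 0) := by
    rw [← LinearMap.finrank_range_of_inj (eval0_injective k (X := X))]
    refine (Submodule.finrank_mono hsub).trans ((LinearMap.finrank_range_le N).trans ?_)
    rw [Module.finrank_pi_fintype, Finset.sum_const, Finset.card_univ, Fintype.card_fin, smul_eq_mul]
  rw [CurveRR.euler_eq_h0_sub_h1 k hdX.le QCoh.isCoh_structureModule'.1] at hpa ⊢
  rw [CurveRR.euler_eq_h0_sub_h1 k hdY.le QCoh.isCoh_structureModule'.1]
  have h1' : (m : ℤ) * Module.finrank k (Coh.HH Y (Coh.structureModule Y) 1) ≤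
      Module.finrank k (Coh.HH X (Coh.structureModule X) 1) := by exact_mod_cast h1
  have h0' : (Module.finrank k (Coh.HH X (Coh.structureModule X) 0) : ℤ) ≤
      (m : ℤ) * Module.finrank k (Coh.HH Y (Coh.structureModule Y) 0) := by exact_mod_cast h0
  have hm' : (1 : ℤ) ≤ m := by exact_mod_cast hm
  by_cases hD : (Module.finrank k (Coh.HH Y (Coh.structureModule Y) 1) : ℤ) < Module.finrank k (Coh.HH Y (Coh.structureModule Y) 0)
  · linarith
  · nlinarith

end Groth.Agent.CurveTrace
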